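import Mathlib

/-!
# Numbers for `Sy.core_bot` (helper308; S3691, F-D+2 (d))
-/

set_option autoImplicit false

namespace Cfsg.Agent.H308.Sy

theorem aux_succ {f : ℕ} (hf : 3 ≤ f) : (f + 1) * (2 ^ (f + 1) + 1) ≤ 4 * (f * (2 ^ f + 1)) := by
  have h1 : f + 1 ≤ 2 * f := by omega
  have h2 : 2 ^ (f + 1) + 1 ≤ 2 * (2 ^ f + 1) := by rw [pow_succ]; omega
  calc (f + 1) * (2 ^ (f + 1) + 1) ≤ (2 * f) * (2 * (2 ^ f + 1)) := Nat.mul_le_mul h1 h2
    _ = 4 * (f * (2 ^ f + 1)) := by ring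

theorem aux_succ2 {f : ℕ} (hf : 3 ≤ f) : (f + 1) ^ 2 * (2 ^ (f + 1) + 1) ≤ 4 * (f ^ 2 * (2 ^ f + 1)) := by
  have h1 : (f + 1) ^ 2 ≤ 2 * f ^ 2 := by nlinarith
  have h2 : 2 ^ (f + 1) + 1 ≤ 2 * (2 ^ f + 1) := by rw [pow_succ]; omega
  calc (f + 1) ^ 2 * (2 ^ (f + 1) + 1) ≤ (2 * f ^ 2) * (2 * (2 ^ f + 1)) := Nat.mul_le_mul h1 h2
    _ = 4 * (f ^ 2 * (2 ^ f + 1)) := by ring

theorem num_a {f : ℕ} (hf : 3 ≤ f) : 16 * (f * (2 ^ f + 1)) < 8 ^ f := by
  induction f, hf using Nat.le_induction with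
  | base => norm_num
  | succ f hf ih =>
    have h1 := aux_succ hf
    rw [pow_succ 8 f]
    omega

theorem num_b {f : ℕ} (hf : 3 ≤ f) : 64 * (f * (2 ^ f + 1)) < 16 ^ f := by
  induction f, hf using Nat.le_induction with
  | base => norm_num
  | succ f hf ih =>
    have h1 := aux_succ hf
    rw [pow_succ 16 f]
    omega

theorem num_c {f : ℕ} (hf : 3 ≤ f) : 4 * (f ^ 2 * (2 ^ f + 1)) < 8 ^ f := by
  induction f, hf using Nat.le_induction with
  | base => norm_num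
  | succ f hf ih =>
    have h1 := aux_succ2 hf
    rw [pow_succ 8 f]
    omega

theorem num_d {f : ℕ} (hf : 3 ≤ f) : 16 * (f ^ 2 * (2 ^ f + 1)) < 16 ^ f := by
  induction f, hf using Nat.le_induction with
  | base => norm_num
  | succ f hf ih =>
    have h1 := aux_succ2 hf
    rw [pow_succ 16 f]
    omega

theorem le_eight {d : ℕ} : d + 4 ≤ 4 * 8 ^ d := by
  induction d with
  | zero => norm_num
  | succ d ih => rw [pow_succ]; omega

/-- a power of two dividing `3 x` divides `x` -/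
theorem pow_dvd_three {a x : ℕ} (h : 2 ^ a ∣ 3 * x) : 2 ^ a ∣ x :=
  Nat.Coprime.dvd_of_dvd_mul_left (Nat.Coprime.pow_left a (by norm_num)) h

theorem pow_ge {f d : ℕ} (hf : 3 ≤ f) : 16 ^ f * 8 ^ d ≤ 2 ^ (f * (d + 4)) := by
  have h1 : (2 : ℕ) ^ (f * (d + 4)) = 16 ^ f * (2 ^ f) ^ d := by
    rw [show (16 : ℕ) = 2 ^ 4 by norm_num, ← pow_mul, ← pow_mul, ← pow_add]; congr 1; ring
  rw [h1]
  apply Nat.mul_le_mul_left
  apply Nat.pow_le_pow_left
  calc 8 = 2 ^ 3 := by norm_num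
    _ ≤ 2 ^ f := Nat.pow_le_pow_right (by norm_num) hf

/-- case `⟨y⟩` normal -/
theorem num_i {f j a : ℕ} (hf : 3 ≤ f) (hj : 3 ≤ j) (ha : 2 ^ a ∣ 4 * j) : 4 * f * (2 ^ f + 1) * 2 ^ a < 2 ^ (f * j) := by
  rcases eq_or_lt_of_le hj with rfl | hj4
  · have h1 : 2 ^ a ∣ 4 := by
      apply pow_dvd_three
      rw [mul_comm]; exact ha
    have h2 := Nat.le_of_dvd (by norm_num) h1
    have h3 := num_a hf
    calc 4 * f * (2 ^ f + 1) * 2 ^ a ≤ 4 * f * (2 ^ f + 1) * 4 := Nat.mul_le_mul_left _ h2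
      _ = 16 * (f * (2 ^ f + 1)) := by ring
      _ < 8 ^ f := h3
      _ = 2 ^ (f * 3) := by rw [show (8 : ℕ) = 2 ^ 3 by norm_num, ← pow_mul, mul_comm]
  · obtain ⟨d, rfl⟩ : ∃ d, j = d + 4 := ⟨j - 4, by omega⟩
    have h2 := Nat.le_of_dvd (by omega) ha
    have h3 := num_b hf
    calc 4 * f * (2 ^ f + 1) * 2 ^ a ≤ 4 * f * (2 ^ f + 1) * (4 * (d + 4)) := Nat.mul_le_mul_left _ h2
      _ ≤ 4 * f * (2 ^ f + 1) * (4 * (4 * 8 ^ d)) := Nat.mul_le_mul_left _ (Nat.mul_le_mul_left _ le_eight)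
      _ = 64 * (f * (2 ^ f + 1)) * 8 ^ d := by ring
      _ < 16 ^ f * 8 ^ d := Nat.mul_lt_mul_of_pos_right h3 (by positivity)
      _ ≤ 2 ^ (f * (d + 4)) := pow_ge hf

/-- case `L₂(2 ^ b)` -/
theorem num_ii {f j a : ℕ} (hf : 3 ≤ f) (hj : 3 ≤ j) (ha : 2 ^ a ∣ f * j) : 4 * f * (2 ^ f + 1) * 2 ^ a < 2 ^ (f * j) := by
  rcases eq_or_lt_of_le hj with rfl | hj4
  · have h1 : 2 ^ a ∣ f := by
      apply pow_dvd_three
      rw [mul_comm]; exact ha
    have h2 := Nat.le_of_dvd (by omega) h1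
    have h3 := num_c hf
    calc 4 * f * (2 ^ f + 1) * 2 ^ a ≤ 4 * f * (2 ^ f + 1) * f := Nat.mul_le_mul_left _ h2
      _ = 4 * (f ^ 2 * (2 ^ f + 1)) := by ring
      _ < 8 ^ f := h3
      _ = 2 ^ (f * 3) := by rw [show (8 : ℕ) = 2 ^ 3 by norm_num, ← pow_mul, mul_comm]
  · obtain ⟨d, rfl⟩ : ∃ d, j = d + 4 := ⟨j - 4, by omega⟩
    have h2 := Nat.le_of_dvd (by positivity) ha
    have h3 := num_d hf
    calc 4 * f * (2 ^ f + 1) * 2 ^ a ≤ 4 * f * (2 ^ f + 1) * (f * (d + 4)) := Nat.mul_le_mul_left _ h2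
      _ ≤ 4 * f * (2 ^ f + 1) * (f * (4 * 8 ^ d)) := Nat.mul_le_mul_left _ (Nat.mul_le_mul_left _ le_eight)
      _ = 16 * (f ^ 2 * (2 ^ f + 1)) * 8 ^ d := by ring
      _ < 16 ^ f * 8 ^ d := Nat.mul_lt_mul_of_pos_right h3 (by positivity)
      _ ≤ 2 ^ (f * (d + 4)) := pow_ge hf

/-- case `L₂(l)` -/
theorem num_iii {f n l w r : ℕ} (hf : 3 ≤ f) (hn : 6 ≤ n) (hne : Even n) (hr : r.Prime) (hord : orderOf ((2 : ℕ) : ZMod r) = f * n)
    (hl : l.Prime) (hrl : r = l ∨ 2 * r ≤ l + 1) (hw : w ∣ l - 1) (hlw : l - 1 ≤ 2 * w) (hwn : w ≤ 2 * n)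
    (hw2 : l = r → w ∣ 2 * n) : False := by
  have := Fact.mk hr
  have h18 : 18 ≤ f * n := by
    calc 18 = 3 * 6 := rfl
      _ ≤ f * n := Nat.mul_le_mul hf hn
  have h3n : 3 * n ≤ f * n := Nat.mul_le_mul_right n hf
  have h2 : ((2 : ℕ) : ZMod r) ≠ 0 := by
    intro h0
    rw [h0, orderOf_zero] at hord
    omega
  have hd := ZMod.orderOf_dvd_card_sub_one h2
  rw [hord] at hd
  have hr2 := hr.two_le
  have hrf := Nat.le_of_dvd (by omega) hd
  have hrl' : r = l := by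
    rcases hrl with h1 | h1
    · exact h1
    · omega
  subst hrl'
  have hw2' := hw2 rfl
  obtain ⟨k, hk⟩ := hd
  have hk1 : k = 1 := by
    rcases k with _ | _ | k
    · omega
    · rfl
    · exfalso
      have : f * n * 2 ≤ f * n * (k + 1 + 1) := Nat.mul_le_mul_left _ (by omega)
      omega
  rw [hk1, mul_one] at hk
  rw [hk] at hw hlw
  obtain ⟨c, hc⟩ := hw
  have hw0 : 0 < w := by
    rcases Nat.eq_zero_or_pos w with h1 | h1
    · rw [h1, zero_mul] at hc; omega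
    · exact h1
  have hc12 : c = 1 ∨ c = 2 := by
    rcases c with _ | _ | _ | c
    · omega
    · left; rfl
    · right; rfl
    · exfalso
      have : w * 3 ≤ w * (c + 1 + 1 + 1) := Nat.mul_le_mul_left _ (by omega)
      omega
  have hn0 : 0 < n := by omega
  rcases hc12 with rfl | rfl
  · -- w = f n
    rw [mul_one] at hc
    rw [← hc] at hw2'
    have h4 := Nat.dvd_of_mul_dvd_mul_right hn0 hw2'
    have := Nat.le_of_dvd (by norm_num) h4
    omega
  · -- 2 w = f n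
    have h4 : f * n ∣ 4 * n := by
      rw [hc]
      obtain ⟨d, hd⟩ := hw2'
      exact ⟨d, by rw [show 4 * n = 2 * (2 * n) by ring, hd]; ring⟩
    have h5 := Nat.dvd_of_mul_dvd_mul_right hn0 h4
    have h6 := Nat.le_of_dvd (by norm_num) h5
    have hf4 : f = 4 := by
      interval_cases f
      · norm_num at h5
      · rfl
    subst hf4
    -- 2 is a square modulo r
    obtain ⟨j, hj⟩ := hne
    have hr8 : r % 8 = 1 := by omega
    have hsq : IsSquare (2 : ZMod r) := by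
      rw [ZMod.exists_sq_eq_two_iff (by omega)]
      left; exact hr8
    have h7 : ((2 : ℕ) : ZMod r) ^ (r / 2) = 1 := by
      push_cast
      have h8 : (2 : ZMod r) ≠ 0 := by
        intro h0
        apply h2
        push_cast
        exact h0
      exact (ZMod.euler_criterion r h8).1 hsq
    have h8 := orderOf_dvd_of_pow_eq_one h7
    rw [hord] at h8
    have h9 := Nat.le_of_dvd (by omega) h8
    omega

/-- case `J₁` -/
theorem num_j {e r : ℕ} (hr : r.Prime) (hord : orderOf ((2 : ℕ) : ZMod r) = e) (he : 18 ≤ e) (hrd : r ∣ 175560)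
    (hd : 175560 ∣ 2 ^ e * (2 ^ e - 1)) : False := by
  have := Fact.mk hr
  have h2 : ((2 : ℕ) : ZMod r) ≠ 0 := by
    intro h0
    rw [h0, orderOf_zero] at hord
    omega
  have h1 := ZMod.orderOf_dvd_card_sub_one h2
  rw [hord] at h1
  have hr2 := hr.two_le
  have hre := Nat.le_of_dvd (by omega) h1
  have h3 : r ∣ 2 ^ 3 * 3 * 5 * 7 * 11 * 19 := by norm_num; exact hrd
  have hr19 : r = 19 := by
    have key : ∀ s : ℕ, s.Prime → s < 18 → ¬ r ∣ s := by
      intro s hs hs18 h4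
      have := (Nat.prime_dvd_prime_iff_eq hr hs).1 h4
      omega
    rcases (Nat.Prime.dvd_mul hr).1 h3 with h4 | h4
    · rcases (Nat.Prime.dvd_mul hr).1 h4 with h4 | h4
      · rcases (Nat.Prime.dvd_mul hr).1 h4 with h4 | h4
        · rcases (Nat.Prime.dvd_mul hr).1 h4 with h4 | h4
          · rcases (Nat.Prime.dvd_mul hr).1 h4 with h4 | h4
            · exact absurd (hr.dvd_of_dvd_pow h4) (key 2 (by norm_num) (by norm_num))
            · exact absurd h4 (key 3 (by norm_num) (by norm_num))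
          · exact absurd h4 (key 5 (by norm_num) (by norm_num))
        · exact absurd h4 (key 7 (by norm_num) (by norm_num))
      · exact absurd h4 (key 11 (by norm_num) (by norm_num))
    · exact (Nat.prime_dvd_prime_iff_eq hr (by norm_num)).1 h4
  subst hr19
  have he18 : e = 18 := by
    have := Nat.le_of_dvd (by norm_num) h1
    omega
  subst he18
  norm_num at hd

end Cfsg.Agent.H308.Sy
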